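import Mathlib

open CategoryTheory Abelian

namespace Groth.Agent.Helper5.ExtReg

universe u
variable {A : Type u} [CommRing A]

lemma smul_ext_eq_zero (N M : ModuleCat.{u} A) (a : A) (ha : ∀ n : N, a • n = 0) (i : ℕ)
    (x : Ext N M i) : a • x = 0 := by
  have h1 : a • x = (Ext.mk₀ (a • 𝟙 N)).comp x (zero_add i) := by
    rw [Ext.mk₀_smul, Ext.smul_comp, Ext.mk₀_id_comp]
  have h2 : a • 𝟙 N = 0 := by
    ext n
    exact ha n
  rw [h1, h2, Ext.mk₀_zero, Ext.zero_comp]

lemma inj_of_shortExact {S : ShortComplex (ModuleCat.{u} A)} (hS : S.ShortExact)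
    (X : ModuleCat.{u} A) (i : ℕ)
    (h3 : ∀ j, j + 1 = i → ∀ x₃ : Ext X S.X₃ j, x₃ = 0)
    (y : Ext X S.X₁ i) (hy : y.comp (Ext.mk₀ S.f) (add_zero i) = 0) : y = 0 := by
  cases i with
  | zero =>
    have : Mono S.f := hS.mono_f
    apply Ext.postcomp_mk₀_injective_of_mono X S.f
    rw [map_zero]
    exact hy
  | succ j =>
    obtain ⟨x₃, hx₃⟩ := Ext.covariant_sequence_exact₁ X hS y hy rfl
    have h0 : x₃ = 0 := h3 j rfl x₃
    subst h0
    rw [← hx₃, Ext.zero_comp]

theorem main (I : Ideal A) (N : Type u) [AddCommGroup N] [Module A N] (k : ℕ)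
    (hN : (I ^ k) • (⊤ : Submodule A N) = ⊥) :
    ∀ (rs : List A) (M : Type u) [AddCommGroup M] [Module A M],
      RingTheory.Sequence.IsWeaklyRegular M rs → (∀ r ∈ rs, r ∈ I) → ∀ i < rs.length,
      ∀ x : Ext (ModuleCat.of A N) (ModuleCat.of A M) i, x = 0 := by
  intro rs
  induction rs with
  | nil => intro M _ _ _ _ i hi; simp at hi
  | cons r rs ih =>
    intro M _ _ hreg hI i hi x
    rw [RingTheory.Sequence.isWeaklyRegular_cons_iff] at hreg
    obtain ⟨reg, hrs⟩ := hreg
    have hS := reg.smulShortComplex_shortExact (M := ModuleCat.of A M)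
    have hrI : r ∈ I := hI r (List.mem_cons_self)
    -- injectivity of multiplication by r
    have hinj : ∀ y : Ext (ModuleCat.of A N) (ModuleCat.of A M) i, r • y = 0 → y = 0 := by
      intro y hy
      rw [Ext.smul_eq_comp_mk₀] at hy
      refine inj_of_shortExact hS (ModuleCat.of A N) i ?_ y hy
      intro j hj x₃
      have hj' : j < rs.length := by
        simp only [List.length_cons] at hi
        omega
      exact ih (QuotSMulTop r M) hrs (fun s hs => hI s (List.mem_cons_of_mem _ hs)) j hj' x₃
    have hpow : ∀ (l : ℕ) (y : Ext (ModuleCat.of A N) (ModuleCat.of A M) i),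
        r ^ l • y = 0 → y = 0 := by
      intro l
      induction l with
      | zero => intro y hy; simpa using hy
      | succ l ihl =>
        intro y hy
        apply ihl
        apply hinj
        rw [smul_smul, ← pow_succ']
        exact hy
    apply hpow k
    apply smul_ext_eq_zero
    intro n
    have : r ^ k • n ∈ (I ^ k) • (⊤ : Submodule A N) :=
      Submodule.smul_mem_smul (Ideal.pow_mem_pow hrI k) trivial
    rw [hN] at this
    exact this

end Groth.Agent.Helper5.ExtReg
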